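import Groth.Agent.Fano.K861.EckFin
import Groth.Agent.Fano.K305.DimA
import Groth.Agent.Fano.K714.TypeConst2
import Groth.Agent.Fano.K713.HomFactor

/-!
# The cone of lines through a point of a smooth cubic threefold

* `dimLE_cone`: it has dimension at most three.
* `finite_eckardt`: it has dimension at most two, except at finitely many points.
-/

set_option autoImplicit false

universe u

namespace K861.LineCone

open LefPen Groth.Agent.Lefpen.H703.ZOpen Module MvPolynomial K714.Irr K714.Frames K470.Cur K656.Trilin K714.Surf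
  K861.EckFin K305.DimA

variable {k : Type u} [Field k]

section Gen

/-- A homogeneous polynomial of degree one is a linear form. -/
theorem exists_dual {n : ℕ} {A : MvPolynomial (Fin n) k} (hA : A.IsHomogeneous 1) :
    ∃ l : (Fin n → k) →ₗ[k] k, ∀ c, eval c A = l c := by
  have h : A ∈ Submodule.span k (Set.range (X : Fin n → MvPolynomial (Fin n) k)) := by
    rw [← homogeneousSubmodule_one_eq_span_X]
    exact hA
  clear hA
  induction h using Submodule.span_induction with
  | mem x hx =>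
    obtain ⟨i, rfl⟩ := hx
    exact ⟨LinearMap.proj i, fun c => by simp⟩
  | zero => exact ⟨0, fun c => by simp⟩
  | add x y _ _ hx hy =>
    obtain ⟨l, hl⟩ := hx
    obtain ⟨m, hm⟩ := hy
    exact ⟨l + m, fun c => by simp [hl, hm]⟩
  | smul a x _ hx =>
    obtain ⟨l, hl⟩ := hx
    exact ⟨a • l, fun c => by simp [hl, smul_eval]⟩

variable {V : Type u} [AddCommGroup V] [Module k V]

theorem irr_submodule [Infinite k] (L : Submodule k V) : Irr k (L : Set V) := by
  have h := (irr_univ (k := k) (V := ↥L)).image (isPolyMap_linear L.subtype)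
  have h2 : L.subtype '' Set.univ = (L : Set V) := by
    rw [Set.image_univ]
    exact Subtype.range_coe
  rwa [h2] at h

/-- proper closed subsets of linear spaces -/
theorem dimLE_proper [Infinite k] [FiniteDimensional k V] {L : Submodule k V} {n : ℕ} (hL : finrank k ↥L = n + 1)
    {S : Set V} (hS : S ⊆ L) {g : V → k} (hg : IsPolyFun k g) (hg0 : ∀ s ∈ S, g s = 0) {s : V} (hs : s ∈ L)
    (hgs : g s ≠ 0) : DimLE k S n := by
  intro h
  have h1 := dimLE_submodule (k := k) L
  rw [hL] at h1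
  exact h1 (dimGE_succ (irr_submodule L) hS hg hg0 hs hgs h)

end Gen

theorem isPolyFun_cube {n : ℕ} (T : (Fin n → k) →ₗ[k] (Fin n → k) →ₗ[k] (Fin n → k) →ₗ[k] k) :
    IsPolyFun k (fun v : Fin n → k => T v v v) := by
  have h : (fun v : Fin n → k => T v v v) = fun v => ∑ i, ∑ j, ∑ l,
      T (Pi.single i 1) (Pi.single j 1) (Pi.single l 1) * (v i * v j * v l) := by
    funext v
    exact K714.Frames.T_expand T v v v
  rw [h]
  have hp : ∀ i, IsPolyFun k (fun v : Fin n → k => v i) := fun i =>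
    isPolyFun_linear (LinearMap.proj i : (Fin n → k) →ₗ[k] k)
  exact pf_sum _ fun i _ => pf_sum _ fun j _ => pf_sum _ fun l _ =>
    pf_const_mul _ (pf_mul (pf_mul (hp i) (hp j)) (hp l))

theorem isPolyFun_quad {n : ℕ} (T : (Fin n → k) →ₗ[k] (Fin n → k) →ₗ[k] (Fin n → k) →ₗ[k] k) (x : Fin n → k) :
    IsPolyFun k (fun v : Fin n → k => T x v v) := by
  have h : (fun v : Fin n → k => T x v v) = fun v => ∑ i, ∑ j, ∑ l,
      T (Pi.single i 1) (Pi.single j 1) (Pi.single l 1) * (x i * v j * v l) := by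
    funext v
    exact K714.Frames.T_expand T x v v
  rw [h]
  have hp : ∀ i, IsPolyFun k (fun v : Fin n → k => v i) := fun i =>
    isPolyFun_linear (LinearMap.proj i : (Fin n → k) →ₗ[k] k)
  exact pf_sum _ fun i _ => pf_sum _ fun j _ => pf_sum _ fun l _ =>
    pf_const_mul _ (pf_mul (pf_mul (isPolyFun_const _) (hp j)) (hp l))

variable [IsAlgClosed k] [CharZero k]
variable {T : (Fin 5 → k) →ₗ[k] (Fin 5 → k) →ₗ[k] (Fin 5 → k) →ₗ[k] k}

/-- no linear spaces of dimension at least three on the cone -/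
theorem exists_cube_ne_zero (hT : IsSym3 T) (hsm : SmoothOn T ⊤) {L : Submodule k (Fin 5 → k)}
    (hL : 3 ≤ finrank k ↥L) : ∃ v ∈ L, T v v v ≠ 0 := by
  by_contra hcon
  push Not at hcon
  let b := finBasis k ↥L
  let e : Fin 3 → ↥L := fun i => b (Fin.castLE hL i)
  have he : LinearIndependent k e := b.linearIndependent.comp _ (Fin.castLE_injective hL)
  have he' : LinearIndependent k (fun i => (e i : Fin 5 → k)) := he.map' L.subtype (Submodule.ker_subtype L)
  refine K714.TypeConst.no_plane hT (by simp) hsm (P := Submodule.span k (Set.range fun i => (e i : Fin 5 → k)))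
    ?_ ?_
  · rw [finrank_span_eq_card he', Fintype.card_fin]
  · intro v hv
    refine hcon v ?_
    have hle : Submodule.span k (Set.range fun i => (e i : Fin 5 → k)) ≤ L := by
      rw [Submodule.span_le]
      rintro _ ⟨i, rfl⟩
      exact (e i).2
    exact hle hv

omit [IsAlgClosed k] [CharZero k] in
/-- the tangent hyperplane -/
theorem finrank_tangent (hsm : SmoothOn T ⊤) {x : Fin 5 → k} (hx : x ≠ 0) :
    finrank k ↥(LinearMap.ker (T x x)) = 4 := by
  have h0 : T x x ≠ 0 := by
    intro h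
    obtain ⟨w, -, hw⟩ := hsm x Submodule.mem_top hx (by rw [h]; rfl)
    exact hw (by rw [h]; rfl)
  have h := Module.Dual.finrank_ker_add_one_of_ne_zero (f := T x x) h0
  have h5 : finrank k (Fin 5 → k) = 5 := by simp
  omega

omit [IsAlgClosed k] [CharZero k] in
theorem cone_subset (hT : IsSym3 T) (x : Fin 5 → k) : Cone T x ⊆ LinearMap.ker (T x x) := by
  rintro p ⟨-, -, h⟩
  change T x x p = 0
  rw [hT.s13 x x p]
  exact h

/-- the cone of lines through a point has dimension at most three -/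
theorem dimLE_cone (hT : IsSym3 T) (hsm : SmoothOn T ⊤) {x : Fin 5 → k} (hx : x ≠ 0) :
    DimLE k (Cone T x) 3 := by
  have hinf : Infinite k := IsAlgClosed.instInfinite
  obtain ⟨v, hv, hv0⟩ := exists_cube_ne_zero hT hsm (L := LinearMap.ker (T x x)) (by
    rw [finrank_tangent hsm hx]; norm_num)
  exact dimLE_proper (finrank_tangent hsm hx) (cone_subset hT x) (isPolyFun_cube T) (fun s hs => hs.1) hv hv0

/-- If the second fundamental form at `x` does not vanish, then the cone has dimension two. -/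
theorem dimLE_two (hT : IsSym3 T) (hsm : SmoothOn T ⊤) {x : Fin 5 → k} (hx : x ≠ 0)
    (hq : ∃ v, T x x v = 0 ∧ T x v v ≠ 0) : DimLE k (Cone T x) 2 := by
  classical
  have hinf : Infinite k := IsAlgClosed.instInfinite
  obtain ⟨v₀, hv₀, hqv⟩ := hq
  set H : Submodule k (Fin 5 → k) := LinearMap.ker (T x x) with hH
  have hH4 : finrank k ↥H = 4 := finrank_tangent hsm hx
  let b := finBasisOfFinrankEq k ↥H hH4
  let j : (Fin 4 → k) →ₗ[k] (Fin 5 → k) := H.subtype ∘ₗ b.equivFun.symm.toLinearMap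
  have hjmem : ∀ c, j c ∈ H := fun c => (b.equivFun.symm c).2
  have hjinj : Function.Injective j := Subtype.val_injective.comp b.equivFun.symm.injective
  have hjsurj : ∀ v ∈ H, ∃ c, j c = v := fun v hv => ⟨b.equivFun ⟨v, hv⟩, by simp [j]⟩
  -- dimension of images
  have hmap : ∀ L : Submodule k (Fin 4 → k), finrank k ↥(L.map j) = finrank k ↥L := fun L =>
    (Submodule.equivMapOfInjective j hjinj L).finrank_eq.symm
  obtain ⟨Q, hQ2, hQ⟩ := K714.TypeConst.exists_homogeneous (k := k) (N := 4) (d := 2)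
    (F := fun c => T x (j c) (j c)) (pf_comp (isPolyFun_quad T x) (isPolyMap_linear j)) (fun t c => by
      simp only [map_smul, LinearMap.smul_apply, smul_eq_mul]; ring)
  obtain ⟨F, hF3, hF⟩ := K714.TypeConst.exists_homogeneous (k := k) (N := 4) (d := 3)
    (F := fun c => T (j c) (j c) (j c)) (pf_comp (isPolyFun_cube T) (isPolyMap_linear j)) (fun t c => by
      simp only [map_smul, LinearMap.smul_apply, smul_eq_mul]; ring)
  have hQ0 : Q ≠ 0 := by
    rintro rfl
    obtain ⟨c, rfl⟩ := hjsurj v₀ hv₀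
    exact hqv (by rw [hQ, map_zero])
  have hqC : ∀ p ∈ Cone T x, T x p p = 0 := fun p hp => by rw [hT.rot x p p]; exact hp.2.1
  have hCH : Cone T x ⊆ H := cone_subset hT x
  -- linear forms
  have hlin : ∀ A : MvPolynomial (Fin 4) k, A.IsHomogeneous 1 → A ≠ 0 → ∃ L : Submodule k (Fin 5 → k),
      finrank k ↥L = 3 ∧ L ≤ H ∧ ∀ c, eval c A = 0 ↔ j c ∈ L := by
    intro A hA hA0
    obtain ⟨l, hl⟩ := exists_dual hA
    have hl0 : l ≠ 0 := by
      rintro rfl
      exact hA0 (MvPolynomial.funext fun c => by rw [hl, map_zero]; rfl)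
    refine ⟨(LinearMap.ker l).map j, ?_, ?_, ?_⟩
    · rw [hmap]
      have h := Module.Dual.finrank_ker_add_one_of_ne_zero (f := l) hl0
      have h5 : finrank k (Fin 4 → k) = 4 := by simp
      omega
    · rintro _ ⟨c, -, rfl⟩
      exact hjmem c
    · intro c
      rw [hl]
      constructor
      · intro h
        exact ⟨c, h, rfl⟩
      · rintro ⟨d, hd, hdc⟩
        rw [← hjinj hdc]
        exact hd
  have hlinD : ∀ L : Submodule k (Fin 5 → k), finrank k ↥L = 3 → DimLE k (Cone T x ∩ L) 2 := by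
    intro L hL
    obtain ⟨v, hv, hv0⟩ := exists_cube_ne_zero hT hsm (L := L) hL.ge
    exact dimLE_proper hL Set.inter_subset_right (isPolyFun_cube T) (fun s hs => hs.1.1) hv hv0
  by_cases hirr : Irreducible Q
  · -- irreducible quadric
    let Z : Set (Fin 4 → k) := {c | eval c Q = 0}
    have hprime : (Ideal.span {Q} : Ideal (MvPolynomial (Fin 4) k)).IsPrime := by
      rw [Ideal.span_singleton_prime hQ0]
      exact hirr.prime
    have hnull : ∀ G : MvPolynomial (Fin 4) k, (∀ c ∈ Z, eval c G = 0) → Q ∣ G := by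
      intro G hG
      rw [← Ideal.mem_span_singleton, ← hprime.isRadical.radical,
        ← vanishingIdeal_zeroLocus_eq_radical (K := k)]
      intro c hc
      rw [aeval_eq_eval]
      refine hG c ?_
      have := hc Q (Ideal.mem_span_singleton_self Q)
      rwa [aeval_eq_eval] at this
    have hZ : Irr k Z := by
      refine ⟨⟨0, ?_⟩, ?_⟩
      · change eval 0 Q = 0
        have h := hQ 0
        simp only [map_zero] at h
        rw [← h]
      rintro O O' hO hO' ⟨v, hv, hvO⟩ ⟨w, hw, hwO⟩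
      obtain ⟨f, hf, hfv, hfO⟩ := hO v hvO
      obtain ⟨g, hg, hgw, hgO⟩ := hO' w hwO
      obtain ⟨P, hP⟩ := exists_mv hf
      obtain ⟨P', hP'⟩ := exists_mv hg
      by_contra hcon
      have hall : ∀ c ∈ Z, eval c (P * P') = 0 := by
        intro c hc
        by_contra h
        rw [map_mul, ← hP, ← hP'] at h
        exact hcon ⟨c, hc, hfO _ (left_ne_zero_of_mul h), hgO _ (right_ne_zero_of_mul h)⟩
      rcases hirr.prime.dvd_or_dvd (hnull _ hall) with ⟨R, hR⟩ | ⟨R, hR⟩
      · apply hfv
        rw [hP, hR, map_mul, show eval v Q = 0 from hv, zero_mul]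
      · apply hgw
        rw [hP', hR, map_mul, show eval w Q = 0 from hw, zero_mul]
    have hCS : Cone T x ⊆ j '' Z := by
      intro p hp
      obtain ⟨c, rfl⟩ := hjsurj p (hCH hp)
      refine ⟨c, ?_, rfl⟩
      change eval c Q = 0
      rw [← hQ]
      exact hqC _ hp
    have hS : Irr k (j '' Z) := hZ.image (isPolyMap_linear j)
    have hS3 : DimLE k (j '' Z) 3 := by
      refine dimLE_proper (L := H) hH4 ?_ (isPolyFun_quad T x) ?_ hv₀ hqv
      · rintro _ ⟨c, -, rfl⟩
        exact hjmem c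
      · rintro _ ⟨c, hc, rfl⟩
        have : eval c Q = 0 := hc
        rw [← hQ] at this
        exact this
    by_cases hFZ : ∃ c ∈ Z, eval c F ≠ 0
    · obtain ⟨c, hc, hFc⟩ := hFZ
      intro h
      refine hS3 (dimGE_succ hS hCS (isPolyFun_cube T) (fun s hs => hs.1) ⟨c, hc, rfl⟩ ?_ h)
      rw [← hF] at hFc
      exact hFc
    · exfalso
      push Not at hFZ
      obtain ⟨M, hM⟩ := hnull F hFZ
      have hF0 : F ≠ 0 := by
        rintro rfl
        obtain ⟨v, hv, hv0⟩ := exists_cube_ne_zero hT hsm (L := H) (by rw [hH4]; norm_num)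
        obtain ⟨c, rfl⟩ := hjsurj v hv
        exact hv0 (by rw [hF, map_zero])
      have hM0 : Q * M ≠ 0 := hM ▸ hF0
      obtain ⟨a, d, had, ha, hd⟩ := K713.HomFactor.exists_isHomogeneous (hM ▸ hF3) hM0
      have ha2 : a = 2 := ha.inj_right hQ2 hQ0
      have hd1 : d = 1 := by omega
      subst hd1
      obtain ⟨L, hL3, hLH, hLz⟩ := hlin M hd (right_ne_zero_of_mul hM0)
      obtain ⟨v, hv, hv0⟩ := exists_cube_ne_zero hT hsm (L := L) hL3.ge
      obtain ⟨c, rfl⟩ := hjsurj v (hLH hv)
      apply hv0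
      rw [hF, hM, map_mul, (hLz c).2 hv, mul_zero]
  · -- two hyperplanes
    have hunit : ¬ IsUnit Q := by
      intro h
      have h1 : IsUnit (eval (0 : Fin 4 → k) Q) := h.map (eval 0)
      have h2 := hQ 0
      simp only [map_zero] at h2
      rw [← h2] at h1
      simp at h1
    rw [irreducible_iff] at hirr
    push Not at hirr
    obtain ⟨A, B, hAB, hA, hB⟩ := hirr hunit
    have hAB0 : A * B ≠ 0 := hAB ▸ hQ0
    obtain ⟨a, d, had, ha, hd⟩ := K713.HomFactor.exists_isHomogeneous (hAB ▸ hQ2) hAB0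
    have hdeg0 : ∀ {A : MvPolynomial (Fin 4) k}, A ≠ 0 → A.IsHomogeneous 0 → IsUnit A := by
      intro A hA0 hA
      have h := hA.totalDegree hA0
      rw [totalDegree_eq_zero_iff_eq_C] at h
      rw [h]
      refine IsUnit.map C (IsUnit.mk0 _ fun h0 => hA0 ?_)
      rw [h, h0, map_zero]
    have ha0 : a ≠ 0 := by
      rintro rfl
      exact hA (hdeg0 (left_ne_zero_of_mul hAB0) ha)
    have hd0 : d ≠ 0 := by
      rintro rfl
      exact hB (hdeg0 (right_ne_zero_of_mul hAB0) hd)
    obtain ⟨rfl, rfl⟩ : a = 1 ∧ d = 1 := by omega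
    obtain ⟨L, hL3, -, hLz⟩ := hlin A ha (left_ne_zero_of_mul hAB0)
    obtain ⟨L', hL3', -, hLz'⟩ := hlin B hd (right_ne_zero_of_mul hAB0)
    refine DimLE.mono ?_ (dimLE_union (hlinD L hL3) (hlinD L' hL3'))
    intro p hp
    obtain ⟨c, rfl⟩ := hjsurj p (hCH hp)
    have h := hqC _ hp
    rw [hQ, hAB, map_mul, mul_eq_zero] at h
    rcases h with h | h
    · exact Or.inl ⟨hp, (hLz c).1 h⟩
    · exact Or.inr ⟨hp, (hLz' c).1 h⟩

/-- finitely many lines through all but finitely many points -/
theorem finite_eckardt (hT : IsSym3 T) (hsm : SmoothOn T ⊤) :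
    ∃ E : Finset (Fin 5 → k), (∀ x ∈ E, x ≠ 0 ∧ T x x x = 0) ∧
      ∀ x : Fin 5 → k, x ≠ 0 → T x x x = 0 → (∀ y ∈ E, ∀ c : k, x ≠ c • y) → DimLE k (Cone T x) 2 := by
  obtain ⟨E, hE, hE'⟩ := exists_finset hT hsm
  refine ⟨E, fun x hx => ⟨(hE x hx).1, (hE x hx).2.1⟩, fun x hx hxx hxE => ?_⟩
  apply dimLE_two hT hsm hx
  by_contra hcon
  push Not at hcon
  obtain ⟨y, hy, c, hc⟩ := hE' x ⟨hx, hxx, fun v w hv hw => by
    have h1 := hcon v hv
    have h2 := hcon w hw
    have h3 := hcon (v + w) (by rw [map_add, hv, hw, add_zero])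
    have h4 : T x (v + w) (v + w) = T x v v + 2 * T x v w + T x w w := by
      simp only [map_add, LinearMap.add_apply]
      rw [hT.s23 x w v]
      ring
    rw [h3, h1, h2] at h4
    have h5 : (2 : k) * T x v w = 0 := by linear_combination -h4
    exact (mul_eq_zero.1 h5).resolve_left (by norm_num)⟩
  exact hxE y hy c hc

end K861.LineCone
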