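import Groth.Agent.Fano.K470.CurDef
import Groth.Agent.Fano.K713.FiniteZeros

/-!
# Eckardt points of a smooth cubic threefold: finiteness

`IsEck T x`: `x ≠ 0`, `T x x x = 0` and `T x v w = 0` for all `v, w` in the tangent space `T x x · = 0`.
There are finitely many such points up to scalars (for any smooth cubic of `k^n`).
-/

set_option autoImplicit false

universe u

namespace K861.EckFin

open MvPolynomial K656.Trilin K714.Surf K714.Frames

variable {k : Type u} [Field k]

/-- Eckardt points -/
def IsEck {n : ℕ} (T : (Fin n → k) →ₗ[k] (Fin n → k) →ₗ[k] (Fin n → k) →ₗ[k] k) (x : Fin n → k) : Prop :=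
  x ≠ 0 ∧ T x x x = 0 ∧ ∀ v w, T x x v = 0 → T x x w = 0 → T x v w = 0

section Der

variable {n : ℕ}

/-- directional derivative at `x` in the direction `v` -/
noncomputable def dd (x v : Fin n → k) (p : MvPolynomial (Fin n) k) : k := ∑ i, v i * eval x (pderiv i p)

theorem dd_sub (x v : Fin n → k) (p q : MvPolynomial (Fin n) k) : dd x v (p - q) = dd x v p - dd x v q := by
  simp only [dd, map_sub, mul_sub, Finset.sum_sub_distrib]

theorem dd_mul_C (x v : Fin n → k) (p : MvPolynomial (Fin n) k) (c : k) : dd x v (p * C c) = dd x v p * c := by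
  simp only [dd, pderiv_mul, pderiv_C, mul_zero, add_zero, map_mul, eval_C, Finset.sum_mul, mul_assoc]

theorem dd_X (x v : Fin n → k) (j : Fin n) : dd x v (X j) = v j := by
  rw [dd, Finset.sum_eq_single j]
  · rw [pderiv_X_self, map_one, mul_one]
  · intro i _ hij
    rw [pderiv_X_of_ne (Ne.symm hij), map_zero, mul_zero]
  · simp

theorem dd_pT (T : (Fin n → k) →ₗ[k] (Fin n → k) →ₗ[k] (Fin n → k) →ₗ[k] k) (x v : Fin n → k)
    (a b c : Fin n → MvPolynomial (Fin n) k) :
    dd x v (pT T a b c) =
      T (fun j => dd x v (a j)) (fun j => eval x (b j)) (fun j => eval x (c j)) +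
      T (fun j => eval x (a j)) (fun j => dd x v (b j)) (fun j => eval x (c j)) +
      T (fun j => eval x (a j)) (fun j => eval x (b j)) (fun j => dd x v (c j)) := by
  have h : ∀ a : Fin n → MvPolynomial (Fin n) k,
      (fun j => dd x v (a j)) = ∑ i, v i • fun j => eval x (pderiv i (a j)) := by
    intro a
    funext j
    simp [dd, Finset.sum_apply]
  rw [h a, h b, h c, dd]
  simp only [pderiv_pT, map_add, eval_pT, mul_add, Finset.sum_add_distrib, map_sum, map_smul,
    LinearMap.sum_apply, LinearMap.smul_apply, smul_eq_mul]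

end Der

variable {n : ℕ} {T : (Fin n → k) →ₗ[k] (Fin n → k) →ₗ[k] (Fin n → k) →ₗ[k] k}

/-- the generic point -/
noncomputable def gX (n : ℕ) (k : Type u) [Field k] : Fin n → MvPolynomial (Fin n) k := fun j => X j

/-- constant vectors -/
noncomputable def gC (e : Fin n → k) : Fin n → MvPolynomial (Fin n) k := fun j => C (e j)

/-- `T(x,x,a) b - T(x,x,b) a` -/
noncomputable def gW (T : (Fin n → k) →ₗ[k] (Fin n → k) →ₗ[k] (Fin n → k) →ₗ[k] k) (a b : Fin n → k) :
    Fin n → MvPolynomial (Fin n) k :=
  fun j => pT T (gX n k) (gX n k) (gC a) * C (b j) - pT T (gX n k) (gX n k) (gC b) * C (a j)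

theorem eval_gX (x : Fin n → k) : (fun j => eval x (gX n k j)) = x := by
  funext j; simp [gX]

theorem eval_gC (x e : Fin n → k) : (fun j => eval x (gC e j)) = e := by
  funext j; simp [gC]

theorem eval_gW (x a b : Fin n → k) : (fun j => eval x (gW T a b j)) = T x x a • b - T x x b • a := by
  funext j
  simp only [gW, map_sub, map_mul, eval_C, eval_pT, eval_gX, eval_gC, Pi.sub_apply, Pi.smul_apply, smul_eq_mul]

theorem dd_gX (x v : Fin n → k) : (fun j => dd x v (gX n k j)) = v := by
  funext j; exact dd_X x v j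

theorem dd_gC (x v e : Fin n → k) : (fun j => dd x v (gC e j)) = 0 := by
  funext j; simp [gC, dd]

theorem dd_gW (hT : IsSym3 T) (x v a b : Fin n → k) :
    (fun j => dd x v (gW T a b j)) = (2 * T x v a) • b - (2 * T x v b) • a := by
  funext j
  have h : ∀ a : Fin n → k, dd x v (pT T (gX n k) (gX n k) (gC a)) = 2 * T x v a := by
    intro a
    rw [dd_pT, dd_gX, dd_gC, eval_gX, eval_gC, map_zero, add_zero, hT.s12 v x a]
    ring
  simp only [gW, dd_sub, dd_mul_C, h, Pi.sub_apply, Pi.smul_apply, smul_eq_mul]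

/-- the equations -/
def eqS (T : (Fin n → k) →ₗ[k] (Fin n → k) →ₗ[k] (Fin n → k) →ₗ[k] k) (i : Fin n) :
    Set (MvPolynomial (Fin n) k) :=
  {X i - C 1, pT T (gX n k) (gX n k) (gX n k)} ∪
    Set.range (fun q : ((Fin n → k) × (Fin n → k)) × ((Fin n → k) × (Fin n → k)) =>
      pT T (gX n k) (gW T q.1.1 q.1.2) (gW T q.2.1 q.2.2))

theorem finite_norm [IsAlgClosed k] [CharZero k] (hT : IsSym3 T) (hsm : SmoothOn T ⊤) (i : Fin n) :
    {x : Fin n → k | IsEck T x ∧ x i = 1}.Finite := by
  refine K713.FiniteZeros.finite_of_forall_tangent (eqS T i) _ ?_ ?_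
  · rintro x ⟨⟨hx0, hx, hxe⟩, hi⟩ p (hp | ⟨q, rfl⟩)
    · rcases hp with rfl | rfl
      · simp [hi]
      · rw [eval_pT, eval_gX, hx]
    · rw [eval_pT, eval_gX, eval_gW, eval_gW]
      refine hxe _ _ ?_ ?_
      · simp only [map_sub, map_smul, smul_eq_mul]; ring
      · simp only [map_sub, map_smul, smul_eq_mul]; ring
  · rintro x ⟨⟨hx0, hx, hxe⟩, hi⟩ v hv
    have hv' : ∀ p ∈ eqS T i, dd x v p = 0 := hv
    -- `v i = 0`
    have hvi : v i = 0 := by
      have h := hv' (X i - C 1) (Or.inl (Or.inl rfl))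
      rw [dd_sub, dd_X] at h
      simpa [dd] using h
    -- `T x x v = 0`
    have hxv : T x x v = 0 := by
      have h := hv' (pT T (gX n k) (gX n k) (gX n k)) (Or.inl (Or.inr rfl))
      rw [dd_pT, dd_gX, eval_gX, hT.rot v x x, hT.s23 x v x] at h
      have h3 : (3 : k) * T x x v = 0 := by linear_combination h
      exact (mul_eq_zero.1 h3).resolve_left (by norm_num)
    -- a vector with `T x x u = 1`
    obtain ⟨u, hu⟩ : ∃ u, T x x u = 1 := by
      obtain ⟨w, -, hw⟩ := hsm x Submodule.mem_top hx0 hx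
      exact ⟨(T x x w)⁻¹ • w, by rw [map_smul, smul_eq_mul, inv_mul_cancel₀ hw]⟩
    -- `T v a b = 0` for `a, b` in the tangent space
    have key : ∀ a b, T x x a = 0 → T x x b = 0 → T v a b = 0 := by
      intro a b ha hb
      have h := hv' (pT T (gX n k) (gW T u a) (gW T u b)) (Or.inr ⟨((u, a), (u, b)), rfl⟩)
      rw [dd_pT, dd_gX, dd_gW hT, dd_gW hT, eval_gX, eval_gW, eval_gW] at h
      simp only [hu, ha, hb, one_smul, zero_smul, sub_zero] at h
      have h1 : T x v a = 0 := hxe v a hxv ha
      have h2 : T x v b = 0 := hxe v b hxv hb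
      have h3 : T x a b = 0 := hxe a b ha hb
      rw [h1, h2] at h
      simp only [mul_zero, zero_smul, sub_zero, map_smul, LinearMap.smul_apply, smul_eq_mul, h3, mul_zero,
        add_zero] at h
      exact h
    -- a singular point in the pencil
    obtain ⟨s, hs⟩ : ∃ s : k, s ^ 2 + 2 * T x v u * s + T v v u = 0 := by
      obtain ⟨s, hs⟩ := IsAlgClosed.exists_root
        (Polynomial.C 1 * Polynomial.X ^ 2 + Polynomial.C (2 * T x v u) * Polynomial.X + Polynomial.C (T v v u))
        (by rw [Polynomial.degree_quadratic one_ne_zero]; decide)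
      exact ⟨s, by simpa [Polynomial.IsRoot] using hs⟩
    have hy : v + s • x = 0 := by
      by_contra hy0
      have hyx : T x x (v + s • x) = 0 := by
        rw [map_add, map_smul, smul_eq_mul, hxv, hx, mul_zero, add_zero]
      have hz : ∀ w, T (v + s • x) (v + s • x) w = 0 := by
        intro w
        have hw : w = T x x w • u + (w - T x x w • u) := by abel
        have hw0 : T x x (w - T x x w • u) = 0 := by
          rw [map_sub, map_smul, smul_eq_mul, hu, mul_one, sub_self]
        have h1 : T (v + s • x) (v + s • x) (w - T x x w • u) = 0 := by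
          rw [map_add T, LinearMap.add_apply, LinearMap.add_apply, key _ _ hyx hw0, map_smul,
            LinearMap.smul_apply, LinearMap.smul_apply, hxe _ _ hyx hw0, smul_zero, add_zero]
        have h2 : T (v + s • x) (v + s • x) u = 0 := by
          rw [hT.sq_add_smul, hT.s12 v x u, hu]
          linear_combination hs
        rw [hw, map_add, map_smul, h1, h2, smul_zero, add_zero]
      obtain ⟨w, -, hw⟩ := hsm _ Submodule.mem_top hy0 (hz _)
      exact hw (hz w)
    have hs0 : s = 0 := by
      have := congrFun hy i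
      simpa [hvi, hi] using this
    rw [hs0, zero_smul, add_zero] at hy
    exact hy

/-- **finitely many Eckardt points** -/
theorem exists_finset [IsAlgClosed k] [CharZero k] (hT : IsSym3 T) (hsm : SmoothOn T ⊤) :
    ∃ E : Finset (Fin n → k), (∀ x ∈ E, IsEck T x) ∧ ∀ x, IsEck T x → ∃ y ∈ E, ∃ c : k, x = c • y := by
  classical
  refine ⟨Finset.univ.biUnion fun i => (finite_norm hT hsm i).toFinset, ?_, ?_⟩
  · intro x hx
    simp only [Finset.mem_biUnion, Finset.mem_univ, true_and, Set.Finite.mem_toFinset, Set.mem_ofPred_eq] at hx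
    exact hx.choose_spec.1
  · intro x hx
    obtain ⟨i, hi⟩ : ∃ i, x i ≠ 0 := by
      by_contra h
      push Not at h
      exact hx.1 (funext h)
    refine ⟨(x i)⁻¹ • x, ?_, x i, ?_⟩
    · simp only [Finset.mem_biUnion, Finset.mem_univ, true_and, Set.Finite.mem_toFinset, Set.mem_ofPred_eq]
      refine ⟨i, ⟨?_, ?_, ?_⟩, ?_⟩
      · exact smul_ne_zero (inv_ne_zero hi) hx.1
      · simp only [map_smul, LinearMap.smul_apply, hx.2.1, smul_zero]
      · intro v w hv hw
        have hc : (x i)⁻¹ * (x i)⁻¹ ≠ 0 := mul_ne_zero (inv_ne_zero hi) (inv_ne_zero hi)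
        simp only [map_smul, LinearMap.smul_apply, smul_smul, smul_eq_mul] at hv hw ⊢
        rw [hx.2.2 v w ((mul_eq_zero.1 hv).resolve_left (by simpa using hi))
          ((mul_eq_zero.1 hw).resolve_left (by simpa using hi)), mul_zero]
      · simp [hi]
    · rw [smul_smul, mul_inv_cancel₀ hi, one_smul]

end K861.EckFin
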